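import Groth.Agent.SchemeMorphisms.Ass
import Groth.Agent.EGA43Sep.Geom
import Groth.Agent.Divisors.IdealComap

/-! Sections of a base change along a free extension of the base, in a basis. -/

set_option autoImplicit false
set_option linter.style.haveILetI false
set_option backward.isDefEq.respectTransparency.types false
universe u

open CategoryTheory Limits AlgebraicGeometry

namespace Groth.EGA43Mult

/-- Membership in the vanishing ideal, pointwise. -/
theorem mem_vanishingIdeal_iff {X : Scheme.{u}} (C : TopologicalSpace.Closeds X) (U : X.affineOpens)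
    (a : Γ(X, U.1)) :
    a ∈ (Scheme.IdealSheafData.vanishingIdeal C).ideal U ↔
      ∀ x ∈ U.1, x ∈ C → x ∉ X.basicOpen a := by
  rw [Scheme.IdealSheafData.vanishingIdeal_ideal, PrimeSpectrum.mem_vanishingIdeal]
  constructor
  · intro h x hxU hxC hxa
    refine (Groth.QCohMod.mem_basicOpen_iff_notMem_primeIdealOf U.2 a x hxU).1 hxa (h _ ?_)
    rw [Set.mem_preimage, U.2.fromSpec_primeIdealOf]
    exact hxC
  · intro h q hq
    by_contra hqa
    refine h _ (Groth.SchemeMorphisms.fromSpec_mem U.2 q) hq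
      ((Groth.QCohMod.mem_basicOpen_iff_notMem_primeIdealOf U.2 a _
        (Groth.SchemeMorphisms.fromSpec_mem U.2 q)).2 ?_)
    rwa [Groth.SchemeMorphisms.primeIdealOf_fromSpec]

variable {X S T : Scheme.{u}} [IsAffine S] [IsAffine T] (p : X ⟶ S) (q : T ⟶ S)

/-- The preimage of an affine open in a base change to an affine scheme. -/
noncomputable abbrev bcOpen (U : X.Opens) : (pullback p q).Opens :=
  pullback.fst p q ⁻¹ᵁ U ⊓ pullback.snd p q ⁻¹ᵁ ⊤

theorem isAffineOpen_bcOpen {U : X.Opens} (hU : IsAffineOpen U) : IsAffineOpen (bcOpen p q U) :=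
  Groth.EGA43Sep.isAffineOpen_prodOpen p q (V := ⊤) (W := ⊤) le_top le_top (isAffineOpen_top S)
    (isAffineOpen_top T) hU

/-- Base change of sections along a free extension: a basis. -/
theorem exists_basis_bcOpen {ι : Type u}
    (b : letI := (q.appLE ⊤ ⊤ le_top).hom.toAlgebra; Module.Basis ι Γ(S, ⊤) Γ(T, ⊤))
    {U : X.Opens} (hU : IsAffineOpen U) :
    letI := ((pullback.fst p q).appLE U (bcOpen p q U) inf_le_left).hom.toAlgebra
    ∃ e : Module.Basis ι Γ(X, U) Γ(pullback p q, bcOpen p q U),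
      ∀ i, e i = ((pullback.snd p q).appLE ⊤ (bcOpen p q U) inf_le_right).hom (b i) := by
  have eT : (⊤ : T.Opens) ≤ q ⁻¹ᵁ ⊤ := le_top
  have eU : U ≤ p ⁻¹ᵁ ⊤ := le_top
  let W := bcOpen p q U
  have hpush := (isIso_pushoutSection_iff (IsPullback.of_hasPullback p q)
    (US := ⊤) (UT := ⊤) (UX := U) (UY := W) eT eU rfl).1
    (isIso_pushoutSection_of_isAffineOpen (IsPullback.of_hasPullback p q) eT eU rfl
      (isAffineOpen_top S) (isAffineOpen_top T) hU)
  letI := (q.appLE ⊤ ⊤ eT).hom.toAlgebra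
  letI := (p.appLE ⊤ U eU).hom.toAlgebra
  letI := ((pullback.fst p q).appLE U W inf_le_left).hom.toAlgebra
  letI := ((pullback.snd p q).appLE ⊤ W inf_le_right).hom.toAlgebra
  letI : Algebra Γ(S, ⊤) Γ(pullback p q, W) :=
    (((pullback.fst p q).appLE U W inf_le_left).hom.comp (p.appLE ⊤ U eU).hom).toAlgebra
  haveI : IsScalarTower Γ(S, ⊤) Γ(X, U) Γ(pullback p q, W) := .of_algebraMap_eq fun _ => rfl
  haveI : IsScalarTower Γ(S, ⊤) Γ(T, ⊤) Γ(pullback p q, W) :=
    .of_algebraMap_eq fun r => congrArg (fun φ => φ.hom r) hpush.w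
  haveI : Algebra.IsPushout Γ(S, ⊤) Γ(X, U) Γ(T, ⊤) Γ(pullback p q, W) :=
    CommRingCat.isPushout_iff_isPushout.1 hpush
  have h := Algebra.IsPushout.out (R := Γ(S, ⊤)) (S := Γ(X, U)) (R' := Γ(T, ⊤))
    (S' := Γ(pullback p q, W))
  refine ⟨(Algebra.TensorProduct.basis Γ(X, U) b).map h.equiv, fun i => ?_⟩
  rw [Module.Basis.map_apply, Algebra.TensorProduct.basis_apply, IsBaseChange.equiv_tmul, one_smul]
  rfl

end Groth.EGA43Mult
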