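import Groth.Agent.QCohMod.Pullback
import Groth.Agent.QCohMod.SupportPullback
import Groth.Agent.SchemeMorphisms.AssRestrict
import Groth.Agent.PropsBasic.TopPrimeCount
import Groth.Agent.S9501

/-! Stalks of modules on fibres as quotients, and lengths at primes. -/

set_option autoImplicit false
set_option linter.style.haveILetI false
universe u

open CategoryTheory AlgebraicGeometry TensorProduct IsLocalRing

namespace Groth.EGA43Mult

open Groth.MilnorKLambda.Per (lq)

section Algebra

variable {R : Type u} [CommRing R] (P : Ideal R) [P.IsPrime] {O : Type u} [CommRing O] [Algebra R O]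
  [IsLocalization.AtPrime O P] {N N' : Type u} [AddCommGroup N] [Module R N] [AddCommGroup N']
  [Module R N'] [Module O N'] [IsScalarTower R O N'] (g : N →ₗ[R] N')
  [IsLocalizedModule P.primeCompl g]

include g

/-- `lq` computed in any model of the localizations. -/
theorem lq_eq_length : lq P N = Module.length O N' := by
  let φ : Localization.AtPrime P ≃ₐ[R] O := IsLocalization.algEquiv P.primeCompl _ _
  let e : LocalizedModule P.primeCompl N ≃ₗ[R] N' := IsLocalizedModule.iso P.primeCompl g
  refine Groth.SchemeMorphisms.length_eq_of_semilinear φ.toRingEquiv e.toAddEquiv fun r a => ?_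
  show e (r • a) = φ r • e a
  obtain ⟨r, s, rfl⟩ := IsLocalization.exists_mk'_eq P.primeCompl r
  have hu : IsUnit (algebraMap R O s) := IsLocalization.map_units O s
  refine hu.smul_left_cancel.1 ?_
  rw [smul_smul, ← φ.commutes s, ← map_mul, IsLocalization.mk'_spec', φ.commutes, algebraMap_smul,
    φ.commutes, algebraMap_smul, ← map_smul, ← map_smul, ← algebraMap_smul (Localization.AtPrime P) (s : R),
    smul_smul, IsLocalization.mk'_spec', algebraMap_smul]

/-- `lq` of the reduction modulo an element. -/
theorem lq_quotSMulTop_eq (t : R) :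
    lq P (QuotSMulTop t N) =
      Module.length O (N' ⧸ (Ideal.span {algebraMap R O t} • (⊤ : Submodule O N'))) := by
  rw [Groth.MilnorKLambda.Per.lq_congr P
    (Submodule.quotEquivOfEq _ _ (Submodule.ideal_span_singleton_smul t (⊤ : Submodule R N)).symm),
    lq_eq_length P (O := O) (g := Submodule.toLocalizedQuotient' O P.primeCompl g
      (Ideal.span {t} • (⊤ : Submodule R N)))]
  refine (Submodule.quotEquivOfEq _ _ ?_).length_eq
  rw [Submodule.localized'_smul, Submodule.localized'_top, Submodule.localized'_span,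
    Set.image_singleton]
  rfl

theorem mem_ass_quotient [IsNoetherianRing R] [IsLocalRing O] (t : R)
    (hP : P ∈ associatedPrimes R (QuotSMulTop t N)) :
    IsAssociatedPrime (maximalIdeal O) (N' ⧸ (Ideal.span {algebraMap R O t} • (⊤ : Submodule O N'))) := by
  have hP' : P ∈ associatedPrimes R (N ⧸ Ideal.span {t} • (⊤ : Submodule R N)) := by
    rwa [← LinearEquiv.AssociatedPrimes.eq
      (Submodule.quotEquivOfEq _ _ (Submodule.ideal_span_singleton_smul t (⊤ : Submodule R N)).symm)]
  have h : maximalIdeal O ∈ associatedPrimes O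
      (N' ⧸ (Ideal.span {t} • (⊤ : Submodule R N)).localized' O P.primeCompl g) := by
    have hc : (maximalIdeal O).comap (algebraMap R O) = P :=
      IsLocalization.AtPrime.comap_maximalIdeal O P
    exact Module.associatedPrimes.mem_associatedPrimes_of_comap_mem_associatedPrimes_of_isLocalizedModule
      P.primeCompl (Submodule.toLocalizedQuotient' O P.primeCompl g
        (Ideal.span {t} • (⊤ : Submodule R N))) (maximalIdeal O) (hc.symm ▸ hP')
  have heq : (Ideal.span {t} • (⊤ : Submodule R N)).localized' O P.primeCompl g =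
      Ideal.span {algebraMap R O t} • (⊤ : Submodule O N') := by
    rw [Submodule.localized'_smul, Submodule.localized'_top, Submodule.localized'_span,
      Set.image_singleton]
    rfl
  rw [heq] at h
  exact h

end Algebra

variable {X Y : Scheme.{u}} (f : X ⟶ Y) (F : X.Modules) [F.IsQuasicoherent] (y : Y) (v : f.fiber y)

/-- The ideal of the fibre at a point of it. -/
noncomputable abbrev fibIdeal : Ideal (X.presheaf.stalk (f.fiberι y v)) :=
  (maximalIdeal (Y.presheaf.stalk (f (f.fiberι y v)))).map (f.stalkMap (f.fiberι y v)).hom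

/-- The stalk of the restriction to a fibre is a quotient of the stalk. -/
theorem exists_fibre_stalk_equiv :
    ∃ e : (F.presheaf.stalk (f.fiberι y v) ⧸ fibIdeal f y v •
        (⊤ : Submodule (X.presheaf.stalk (f.fiberι y v)) (F.presheaf.stalk (f.fiberι y v)))) ≃+
        ((Scheme.Modules.pullback (f.fiberι y)).obj F).presheaf.stalk v,
      ∀ r a, e (r • a) = ((f.fiberι y).stalkMap v).hom r • e a := by
  obtain ⟨hs, hk⟩ := Groth.Agent.S9501.result f y v
  letI := Groth.QCohMod.stalkAlg (f.fiberι y) v
  let M := F.presheaf.stalk (f.fiberι y v)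
  let φ := Algebra.linearMap (X.presheaf.stalk (f.fiberι y v)) ((f.fiber y).presheaf.stalk v)
  have hker : LinearMap.ker φ = fibIdeal f y v := hk
  let q : (X.presheaf.stalk (f.fiberι y v) ⧸ fibIdeal f y v)
      ≃ₗ[X.presheaf.stalk (f.fiberι y v)] (f.fiber y).presheaf.stalk v :=
    (Submodule.quotEquivOfEq _ _ hker.symm).trans (φ.quotKerEquivOfSurjective hs)
  let e₁ : (M ⧸ fibIdeal f y v • (⊤ : Submodule (X.presheaf.stalk (f.fiberι y v)) M))
      ≃ₗ[X.presheaf.stalk (f.fiberι y v)]
      (f.fiber y).presheaf.stalk v ⊗[X.presheaf.stalk (f.fiberι y v)] M :=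
    (TensorProduct.quotTensorEquivQuotSMul M (fibIdeal f y v)).symm.trans
      (TensorProduct.congr q (LinearEquiv.refl _ _))
  let e₂ := Groth.QCohMod.pullStalkEquiv (f.fiberι y) F v
  refine ⟨e₁.toAddEquiv.trans e₂.toAddEquiv, fun r a => ?_⟩
  show e₂ (e₁ (r • a)) = _ • e₂ (e₁ a)
  rw [map_smul, ← algebraMap_smul ((f.fiber y).presheaf.stalk v) r, map_smul]
  rfl

theorem length_fibre_stalk :
    Module.length ((f.fiber y).presheaf.stalk v)
      (((Scheme.Modules.pullback (f.fiberι y)).obj F).presheaf.stalk v) =
    Module.length (X.presheaf.stalk (f.fiberι y v))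
      (F.presheaf.stalk (f.fiberι y v) ⧸ fibIdeal f y v •
        (⊤ : Submodule (X.presheaf.stalk (f.fiberι y v)) (F.presheaf.stalk (f.fiberι y v)))) := by
  obtain ⟨e, he⟩ := exists_fibre_stalk_equiv f F y v
  letI := ((f.fiberι y).stalkMap v).hom.toAlgebra
  let G := ((Scheme.Modules.pullback (f.fiberι y)).obj F).presheaf.stalk v
  letI : Module (X.presheaf.stalk (f.fiberι y v)) G := Module.compHom _ ((f.fiberι y).stalkMap v).hom
  haveI : IsScalarTower (X.presheaf.stalk (f.fiberι y v)) ((f.fiber y).presheaf.stalk v) G :=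
    .of_algebraMap_smul fun _ _ => rfl
  rw [({ e with map_smul' := he } : _ ≃ₗ[X.presheaf.stalk (f.fiberι y v)] G).length_eq]
  exact (Module.length_eq_of_surjective (R := (f.fiber y).presheaf.stalk v)
    (S := X.presheaf.stalk (f.fiberι y v)) (M := G) (Groth.Agent.S9501.result f y v).1).symm

theorem isAssPoint_fibre
    (h : IsAssociatedPrime (maximalIdeal (X.presheaf.stalk (f.fiberι y v)))
      (F.presheaf.stalk (f.fiberι y v) ⧸ fibIdeal f y v •
        (⊤ : Submodule (X.presheaf.stalk (f.fiberι y v)) (F.presheaf.stalk (f.fiberι y v))))) :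
    v ∈ AssSch.Ass ((Scheme.Modules.pullback (f.fiberι y)).obj F) := by
  obtain ⟨e, he⟩ := exists_fibre_stalk_equiv f F y v
  have hs := (Groth.Agent.S9501.result f y v).1
  obtain ⟨-, a, ha⟩ := h
  refine ⟨inferInstance, e a, ?_⟩
  ext r
  obtain ⟨r, rfl⟩ := hs r
  have key := SetLike.ext_iff.1 ha r
  simp only [Ideal.mem_radical_iff, Submodule.mem_colon_singleton, Submodule.mem_bot] at key ⊢
  simp only [← map_pow, ← he, e.map_eq_zero_iff]
  refine Iff.trans ?_ key
  simp only [IsLocalRing.mem_maximalIdeal, mem_nonunits_iff, isUnit_map_iff]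

end Groth.EGA43Mult
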